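import Mathlib
import Cfsg.Agent.Lib.Orth.SignSubgroup

/-!
An orthogonal basis of constant norm of a seven-dimensional quadratic space, the signed
permutation isometries attached to it and the quaternionic element of order three.
-/

set_option autoImplicit false
set_option linter.unusedSectionVars false

namespace CfsgLib.OmegaSeven

open Matrix Cfsg
open CfsgLib.OrthSpinor
open QuadraticMap (polar)

variable {ι : Type} [Fintype ι] [DecidableEq ι] {F : Type*} [Field F] [Fintype F]

/-- An orthogonal basis of constant norm. -/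
structure Frame (Q : QuadraticForm F (ι → F)) where
  b : Module.Basis (Fin 7) F (ι → F)
  c : F
  hc : c ≠ 0
  h2 : (2 : F) ≠ 0
  ns2 : ¬ IsSquare (2 : F)
  hb : ∀ i j, polar (⇑Q) (b i) (b j) = if i = j then 2 * c else 0

variable {Q : QuadraticForm F (ι → F)}

theorem exists_frame (h2 : (2 : F) ≠ 0) (ns2 : ¬ IsSquare (2 : F))
    (hQ : (QuadraticMap.polarBilin Q).Nondegenerate) (hcard : Fintype.card ι = 7) :
    Nonempty (Frame Q) := by
  obtain ⟨c, b, hc, ho, hn, hsq⟩ := exists_basis_same_class h2 hQ ⟨3, hcard⟩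
  let b' := b.reindex (finCongr hcard)
  have hn' : ∀ i, Q (b' i) ≠ 0 := fun i => by simpa [b'] using hn _
  have hsq' : ∀ i, IsSquare (c * Q (b' i)) := fun i => by simpa [b'] using hsq _
  choose s hs using hsq'
  have hs0 : ∀ i, s i ≠ 0 := fun i h => mul_ne_zero hc (hn' i) (by rw [hs i, h, mul_zero])
  refine ⟨⟨b'.unitsSMul fun i => Units.mk0 (c / s i) (div_ne_zero hc (hs0 i)), c, hc, h2, ns2,
    fun i j => ?_⟩⟩
  simp only [Module.Basis.unitsSMul_apply, Units.smul_def, Units.val_mk0,
    QuadraticMap.polar_smul_left, QuadraticMap.polar_smul_right, smul_eq_mul]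
  by_cases hij : i = j
  · subst hij
    rw [if_pos rfl, polar_self' Q]
    have := hs0 i
    field_simp
    linear_combination hs i
  · rw [if_neg hij]
    have h0 : polar (⇑Q) (b' i) (b' j) = 0 := by
      simpa [b'] using ho _ _ (fun h => hij ((finCongr hcard).symm.injective h))
    rw [h0]
    ring

namespace Frame

variable (K : Frame Q)

theorem Q_b (i : Fin 7) : Q (K.b i) = K.c := by
  have h := K.hb i i
  rw [if_pos rfl, polar_self' Q] at h
  exact mul_left_cancel₀ K.h2 h

/-- The action of an isometry as a linear map. -/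
def actLin (g : ↥(isometryGroup F ⇑Q)) : (ι → F) →ₗ[F] (ι → F) where
  toFun := act Q g
  map_add' := act_add Q g
  map_smul' := act_smul Q g

theorem ext_basis {g h : ↥(isometryGroup F ⇑Q)} (H : ∀ i, act Q g (K.b i) = act Q h (K.b i)) :
    g = h :=
  ext_act Q fun x => LinearMap.congr_fun (K.b.ext (f₁ := actLin g) (f₂ := actLin h) H) x

theorem exists_iso (w : Fin 7 → ι → F)
    (hw : ∀ i j, polar (⇑Q) (w i) (w j) = if i = j then 2 * K.c else 0) :
    ∃ g : ↥(isometryGroup F ⇑Q), ∀ i, act Q g (K.b i) = w i := by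
  classical
  have hli : LinearIndependent F w :=
    LinearMap.BilinForm.linearIndependent_of_iIsOrtho (B := QuadraticMap.polarBilin Q)
      (fun i j hij => by
        show QuadraticMap.polarBilin Q (w i) (w j) = 0
        rw [QuadraticMap.polarBilin_apply_apply, hw, if_neg hij]) (fun i => by
        show ¬ (QuadraticMap.polarBilin Q) (w i) (w i) = 0
        rw [QuadraticMap.polarBilin_apply_apply, hw, if_pos rfl]
        exact mul_ne_zero K.h2 K.hc)
  have hdim : Fintype.card (Fin 7) = Module.finrank F (ι → F) := by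
    rw [Module.finrank_eq_card_basis K.b]
  let w' := basisOfLinearIndependentOfCardEqFinrank hli hdim
  let e := K.b.equiv w' (Equiv.refl _)
  have he : ∀ i, e (K.b i) = w i := fun i => by simp [e, w', Module.Basis.equiv_apply]
  have hB : (QuadraticMap.polarBilin Q).compl₁₂ e.toLinearMap e.toLinearMap =
      QuadraticMap.polarBilin Q := by
    refine LinearMap.BilinForm.ext_basis K.b fun i j => ?_
    show QuadraticMap.polar (⇑Q) (e (K.b i)) (e (K.b j)) = _
    rw [he, he, hw, QuadraticMap.polarBilin_apply_apply, K.hb]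
  have hQe : ∀ x, Q (e x) = Q x := fun x => by
    have h := LinearMap.congr_fun (LinearMap.congr_fun hB x) x
    simp only [LinearMap.compl₁₂_apply, QuadraticMap.polarBilin_apply_apply, LinearEquiv.coe_coe,
      polar_self'] at h
    exact mul_left_cancel₀ K.h2 h
  refine ⟨mkIsometry Q (LinearMap.toMatrix' e.toLinearMap) (LinearMap.toMatrix' e.symm.toLinearMap)
    (by rw [← LinearMap.toMatrix'_comp, LinearEquiv.comp_symm, LinearMap.toMatrix'_id])
    (by rw [← LinearMap.toMatrix'_comp, LinearEquiv.symm_comp, LinearMap.toMatrix'_id])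
    (fun x => by rw [LinearMap.toMatrix'_mulVec]; exact hQe x), fun i => ?_⟩
  rw [act_mkIsometry, LinearMap.toMatrix'_mulVec]
  exact he i

/-- The sign `±1` in the field. -/
def sc (F : Type*) [Field F] : ℤˣ →* F :=
  ((Int.castRingHom F).toMonoidHom).comp (Units.coeHom ℤ)

omit [Fintype F] in
theorem sc_mul_self (u : ℤˣ) : sc F u * sc F u = 1 := by
  rcases Int.units_eq_one_or u with rfl | rfl <;> simp [sc]

omit [Fintype F] in
theorem sc_neg_one : sc F (-1) = -1 := by simp [sc]

omit [Fintype F] in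
theorem sc_injective (h2 : (2 : F) ≠ 0) : Function.Injective (sc F) := by
  intro u v h
  rcases Int.units_eq_one_or u with rfl | rfl <;> rcases Int.units_eq_one_or v with rfl | rfl
  · rfl
  · exact absurd (by simp [sc] at h; linear_combination h : (2 : F) = 0) h2
  · exact absurd (by simp [sc] at h; linear_combination -h : (2 : F) = 0) h2
  · rfl

theorem mo_aux (ε : Fin 7 → ℤˣ) (σ : Equiv.Perm (Fin 7)) (i j : Fin 7) :
    polar (⇑Q) (sc F (ε (σ i)) • K.b (σ i)) (sc F (ε (σ j)) • K.b (σ j)) =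
      if i = j then 2 * K.c else 0 := by
  rw [QuadraticMap.polar_smul_left, QuadraticMap.polar_smul_right, smul_eq_mul, smul_eq_mul, K.hb]
  by_cases h : i = j
  · subst h
    rw [if_pos rfl, if_pos rfl, ← mul_assoc, sc_mul_self, one_mul]
  · rw [if_neg h, if_neg (fun h' => h (σ.injective h')), mul_zero, mul_zero]

/-- The signed permutation `b i ↦ ε (σ i) • b (σ i)`. -/
noncomputable def mo (ε : Fin 7 → ℤˣ) (σ : Equiv.Perm (Fin 7)) : ↥(isometryGroup F ⇑Q) :=
  (K.exists_iso _ (K.mo_aux ε σ)).choose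

theorem act_mo (ε : Fin 7 → ℤˣ) (σ : Equiv.Perm (Fin 7)) (i : Fin 7) :
    act Q (K.mo ε σ) (K.b i) = sc F (ε (σ i)) • K.b (σ i) :=
  (K.exists_iso _ (K.mo_aux ε σ)).choose_spec i

theorem mo_mul (ε δ : Fin 7 → ℤˣ) (σ τ : Equiv.Perm (Fin 7)) :
    K.mo ε σ * K.mo δ τ = K.mo (ε * fun i => δ (σ.symm i)) (σ * τ) := by
  refine K.ext_basis fun i => ?_
  rw [act_mul, act_mo, act_smul, act_mo, act_mo, smul_smul, ← map_mul]
  simp [mul_comm]

theorem mo_one : K.mo 1 1 = 1 := K.ext_basis fun i => by simp [act_mo, sc]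

theorem mo_inj {ε δ : Fin 7 → ℤˣ} {σ τ : Equiv.Perm (Fin 7)} (h : K.mo ε σ = K.mo δ τ) :
    ε = δ ∧ σ = τ := by
  have key : ∀ i, σ i = τ i ∧ ε (σ i) = δ (τ i) := by
    intro i
    have hh : act Q (K.mo ε σ) (K.b i) = act Q (K.mo δ τ) (K.b i) := by rw [h]
    rw [act_mo, act_mo] at hh
    have hr := congrArg (fun x => K.b.repr x (σ i)) hh
    simp only [map_smul, Module.Basis.repr_self, Finsupp.smul_apply, smul_eq_mul,
      Finsupp.single_eq_same, mul_one] at hr
    rcases eq_or_ne (σ i) (τ i) with he | he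
    · refine ⟨he, sc_injective K.h2 ?_⟩
      rw [he] at hr ⊢
      simpa using hr
    · rw [Finsupp.single_eq_of_ne he, mul_zero] at hr
      exfalso
      have := sc_mul_self (F := F) (ε (σ i))
      rw [hr, mul_zero] at this
      exact zero_ne_one this
  have hσ : σ = τ := Equiv.ext fun i => (key i).1
  refine ⟨funext fun j => ?_, hσ⟩
  have := (key (σ.symm j)).2
  rw [← hσ] at this
  simpa using this

/-- Sign changes. -/
noncomputable def epsHom : (Fin 7 → ℤˣ) →* ↥(isometryGroup F ⇑Q) where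
  toFun ε := K.mo ε 1
  map_one' := K.mo_one
  map_mul' ε δ := by rw [mo_mul, mul_one]; rfl

/-- Coordinate permutations. -/
noncomputable def permHom : Equiv.Perm (Fin 7) →* ↥(isometryGroup F ⇑Q) where
  toFun σ := K.mo 1 σ
  map_one' := K.mo_one
  map_mul' σ τ := by
    rw [mo_mul]
    congr 1

theorem mo_eq (ε : Fin 7 → ℤˣ) (σ : Equiv.Perm (Fin 7)) :
    K.mo ε σ = K.epsHom ε * K.permHom σ := by
  show _ = K.mo ε 1 * K.mo 1 σ
  rw [mo_mul, one_mul]
  congr 1
  funext i
  simp

theorem Q_sub {i j : Fin 7} (hij : i ≠ j) : Q (K.b i - K.b j) = 2 * K.c := by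
  rw [map_sub' Q, Q_b, Q_b, K.hb, if_neg hij, sub_zero, two_mul]

theorem reflection_b (i : Fin 7) :
    reflection (show Q (K.b i) ≠ 0 from by rw [K.Q_b]; exact K.hc) =
      K.epsHom (Pi.mulSingle i (-1)) := by
  have hc := K.hc
  refine K.ext_basis fun j => ?_
  show _ = act Q (K.mo _ 1) (K.b j)
  rw [act_mo, act_reflection, Equiv.Perm.one_apply, K.hb]
  rcases eq_or_ne i j with rfl | h
  · rw [if_pos rfl, K.Q_b, Pi.mulSingle_eq_same, sc_neg_one,
      show K.c⁻¹ * (2 * K.c) = (2 : F) by field_simp]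
    module
  · rw [if_neg h, Pi.mulSingle_eq_of_ne (Ne.symm h), map_one, mul_zero, zero_smul, sub_zero,
      one_smul]

theorem reflection_sub {i j : Fin 7} (hij : i ≠ j) :
    reflection (show Q (K.b i - K.b j) ≠ 0 from by
      rw [K.Q_sub hij]; exact mul_ne_zero K.h2 K.hc) = K.permHom (Equiv.swap i j) := by
  have hc := K.hc
  have h2 := K.h2
  refine K.ext_basis fun k => ?_
  show _ = act Q (K.mo 1 _) (K.b k)
  rw [act_mo, act_reflection, K.Q_sub hij, QuadraticMap.polar_sub_left, K.hb, K.hb,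
    Pi.one_apply, map_one, one_smul]
  rcases eq_or_ne i k with rfl | hik
  · rw [if_pos rfl, if_neg (Ne.symm hij), Equiv.swap_apply_left, sub_zero,
      inv_mul_cancel₀ (mul_ne_zero h2 hc)]
    module
  · rcases eq_or_ne j k with rfl | hjk
    · rw [if_neg hik, if_pos rfl, Equiv.swap_apply_right, zero_sub, mul_neg,
        inv_mul_cancel₀ (mul_ne_zero h2 hc)]
      module
    · rw [if_neg hik, if_neg hjk, sub_zero, mul_zero, zero_smul, sub_zero,
        Equiv.swap_apply_of_ne_of_ne (Ne.symm hik) (Ne.symm hjk)]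

theorem detHom_eps (ε : Fin 7 → ℤˣ) :
    detHom (K.epsHom ε) = Units.map (Int.castRingHom F).toMonoidHom (∏ i, ε i) := by
  have : (detHom (Q := Q)).comp K.epsHom =
      (Units.map (Int.castRingHom F).toMonoidHom).comp
        (∏ i, Pi.evalMonoidHom (fun _ : Fin 7 => ℤˣ) i) := by
    refine MonoidHom.functions_ext (M := fun _ : Fin 7 => ℤˣ) _ _ _ fun i x => ?_
    rw [MonoidHom.comp_apply, MonoidHom.comp_apply, MonoidHom.finsetProd_apply]
    simp only [Pi.evalMonoidHom_apply, Finset.prod_pi_mulSingle', Finset.mem_univ, if_true]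
    rcases Int.units_eq_one_or x with rfl | rfl
    · simp
    · rw [← K.reflection_b, detHom_reflection]
      exact Units.ext (by simp)
  simpa [MonoidHom.finsetProd_apply] using DFunLike.congr_fun this ε

theorem theta_eps (ε : Fin 7 → ℤˣ) : theta (Q := Q) K.c (K.epsHom ε) = ∏ i, ε i := by
  have : (theta (Q := Q) K.c).comp K.epsHom = ∏ i, Pi.evalMonoidHom (fun _ : Fin 7 => ℤˣ) i := by
    refine MonoidHom.functions_ext (M := fun _ : Fin 7 => ℤˣ) _ _ _ fun i x => ?_
    rw [MonoidHom.comp_apply, MonoidHom.finsetProd_apply]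
    simp only [Pi.evalMonoidHom_apply, Finset.prod_pi_mulSingle', Finset.mem_univ, if_true]
    rcases Int.units_eq_one_or x with rfl | rfl
    · simp
    · rw [← K.reflection_b]
      exact theta_reflection_of_square K.h2 K.hc _ (by rw [K.Q_b]; exact ⟨K.c, rfl⟩)
  simpa [MonoidHom.finsetProd_apply] using DFunLike.congr_fun this ε

theorem detHom_perm (σ : Equiv.Perm (Fin 7)) :
    detHom (K.permHom σ) = Units.map (Int.castRingHom F).toMonoidHom (Equiv.Perm.sign σ) := by
  induction σ using Equiv.Perm.swap_induction_on with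
  | one => simp
  | swap_mul f x y hxy ih =>
    rw [map_mul, map_mul, ih, ← K.reflection_sub hxy, detHom_reflection, map_mul,
      Equiv.Perm.sign_swap hxy, map_mul]
    congr 1
    exact Units.ext (by simp)

theorem theta_perm (σ : Equiv.Perm (Fin 7)) : theta (Q := Q) K.c (K.permHom σ) = 1 := by
  induction σ using Equiv.Perm.swap_induction_on with
  | one => simp
  | swap_mul f x y hxy ih =>
    rw [map_mul, map_mul, ih, mul_one, ← K.reflection_sub hxy]
    refine theta_reflection_of_nonsquare K.h2 K.hc _ ?_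
    rw [K.Q_sub hxy, show K.c * (2 * K.c) = 2 * K.c ^ 2 by ring]
    rintro ⟨s, hs⟩
    refine K.ns2 ⟨s / K.c, ?_⟩
    have := K.hc
    field_simp
    linear_combination hs

theorem mo_mem_iff (hQ : (QuadraticMap.polarBilin Q).Nondegenerate) (hn : 2 ≤ Fintype.card ι)
    (ε : Fin 7 → ℤˣ) (σ : Equiv.Perm (Fin 7)) :
    K.mo ε σ ∈ Omega F ⇑Q ↔ ∏ i, ε i = 1 ∧ Equiv.Perm.sign σ = 1 := by
  have hinj : Function.Injective (Units.map (Int.castRingHom F).toMonoidHom) := fun u v h =>
    sc_injective K.h2 (congrArg Units.val h)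
  rw [mem_Omega_iff K.h2 hQ hn K.hc, mo_eq, map_mul, map_mul, theta_eps, theta_perm, mul_one,
    detHom_eps, detHom_perm, ← map_mul, ← map_one (Units.map (Int.castRingHom F).toMonoidHom),
    hinj.eq_iff]
  constructor
  · rintro ⟨h1, h2⟩
    exact ⟨h2, by simpa [h2] using h1⟩
  · rintro ⟨h1, h2⟩
    exact ⟨by rw [h1, h2, mul_one], h1⟩

/-- The images of the basis under the quaternionic element of order three. -/
noncomputable def omegaVec : Fin 7 → ι → F :=
  ![(2 : F)⁻¹ • (-K.b 0 + K.b 1 + K.b 2 + K.b 3), (2 : F)⁻¹ • (-K.b 0 - K.b 1 + K.b 2 - K.b 3),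
    (2 : F)⁻¹ • (-K.b 0 - K.b 1 - K.b 2 + K.b 3), (2 : F)⁻¹ • (-K.b 0 + K.b 1 - K.b 2 - K.b 3),
    K.b 4, K.b 5, K.b 6]

theorem omegaVec_aux (i j : Fin 7) :
    polar (⇑Q) (K.omegaVec i) (K.omegaVec j) = if i = j then 2 * K.c else 0 := by
  have h2 := K.h2
  have hB : ∀ i j, QuadraticMap.polarBilin Q (K.b i) (K.b j) = if i = j then 2 * K.c else 0 := K.hb
  rw [← QuadraticMap.polarBilin_apply_apply]
  fin_cases i <;> fin_cases j <;>
    simp [omegaVec, -QuadraticMap.polarBilin_apply_apply, hB] <;> field_simp <;> ring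

/-- The element of order three. -/
noncomputable def omegaElt : ↥(isometryGroup F ⇑Q) :=
  (K.exists_iso _ K.omegaVec_aux).choose

theorem act_omegaElt (i : Fin 7) : act Q K.omegaElt (K.b i) = K.omegaVec i :=
  (K.exists_iso _ K.omegaVec_aux).choose_spec i

theorem omegaElt_cube : K.omegaElt * (K.omegaElt * K.omegaElt) = 1 := by
  have h2 := K.h2
  refine K.ext_basis fun i => ?_
  rw [act_mul, act_mul, act_omegaElt, act_one]
  fin_cases i <;>
    simp [omegaVec, act_add, act_sub, act_neg, act_smul, act_omegaElt] <;>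
    match_scalars <;> field_simp <;> ring

theorem omegaElt_mem (hQ : (QuadraticMap.polarBilin Q).Nondegenerate)
    (hn : 2 ≤ Fintype.card ι) : K.omegaElt ∈ Omega F ⇑Q := by
  set h := K.omegaElt with hh
  have h3 := K.omegaElt_cube
  rw [← hh] at h3
  have hd2 : ∀ g : ↥(isometryGroup F ⇑Q), detHom g * detHom g = 1 := fun g => by
    have : (detHom (Q := Q)) * detHom = 1 := hom_ext K.h2 hQ fun v hv => by
      rw [MonoidHom.mul_apply, detHom_reflection, MonoidHom.one_apply]; simp
    exact DFunLike.congr_fun this g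
  rw [mem_Omega_iff K.h2 hQ hn K.hc]
  constructor
  · have h := congrArg detHom h3
    rwa [map_mul, map_mul, hd2, mul_one, map_one] at h
  · have h := congrArg (theta (Q := Q) K.c) h3
    rwa [map_mul, map_mul, Int.units_mul_self, mul_one, map_one] at h

/-- The order three element carries a sign change to a monomial element moving four vectors. -/
theorem omega_conj :
    K.omegaElt * K.mo ![1, 1, -1, -1, 1, 1, 1] 1 =
      K.mo ![-1, 1, -1, 1, 1, 1, 1] (Equiv.swap 0 2 * Equiv.swap 1 3) * K.omegaElt := by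
  have e : ∀ k : Fin 7, (Equiv.swap (0 : Fin 7) 2 * Equiv.swap 1 3 : Equiv.Perm (Fin 7)) k =
      (![2, 3, 0, 1, 4, 5, 6] : Fin 7 → Fin 7) k := by decide
  have h2 := K.h2
  refine K.ext_basis fun i => ?_
  rw [act_mul, act_mul, act_mo, act_smul, Equiv.Perm.one_apply, act_omegaElt]
  fin_cases i <;>
    simp [omegaVec, act_add, act_sub, act_neg, act_smul, act_mo, e, sc] <;>
    match_scalars <;> ring

end Frame

end CfsgLib.OmegaSeven
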