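import Mathlib

/-!
Finite facts about a Sylow 2-subgroup (dihedral of order eight) of the alternating group of degree seven
and its action on sign vectors.
-/

set_option autoImplicit false
set_option maxRecDepth 10000

namespace CfsgLib.OmegaSeven

/-- The eight permutations, as functions: powers of a four-cycle times a transposition, then the rest. -/
def tab : Fin 8 → Fin 7 → Fin 7 :=
  ![![0,1,2,3,4,5,6], ![2,3,1,0,5,4,6], ![1,0,3,2,4,5,6], ![3,2,0,1,5,4,6], ![1,0,2,3,5,4,6],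
    ![3,2,1,0,4,5,6], ![0,1,3,2,5,4,6], ![2,3,0,1,4,5,6]]

/-- The index of an inverse. -/
def invIdx : Fin 8 → Fin 8 := ![0, 3, 2, 1, 4, 5, 6, 7]

/-- The index of a product. -/
def mulIdx (a b : Fin 8) : Fin 8 :=
  if a.val < 4 then
    (if b.val < 4 then ⟨(a.val + b.val) % 4, by omega⟩ else ⟨4 + (a.val + b.val) % 4, by omega⟩)
  else
    (if b.val < 4 then ⟨4 + (a.val + 4 - b.val) % 4, by omega⟩
      else ⟨(a.val + 8 - b.val) % 4, by omega⟩)

theorem tab_mul : ∀ a b i, tab a (tab b i) = tab (mulIdx a b) i := by decide +kernel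

theorem tab_inv : ∀ a i, tab a (tab (invIdx a) i) = i ∧ tab (invIdx a) (tab a i) = i := by
  decide +kernel

/-- The eight permutations. -/
def dp (k : Fin 8) : Equiv.Perm (Fin 7) :=
  ⟨tab k, tab (invIdx k), fun i => (tab_inv k i).2, fun i => (tab_inv k i).1⟩

theorem dp_mul (a b : Fin 8) : dp a * dp b = dp (mulIdx a b) := Equiv.ext fun i => tab_mul a b i

theorem dp_zero : dp 0 = 1 := Equiv.ext (by decide +kernel)

theorem dp_inv (a : Fin 8) : (dp a)⁻¹ = dp (invIdx a) := Equiv.ext fun _ => rfl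

theorem tab_injective : ∀ a b, (∀ i, tab a i = tab b i) → a = b := by decide +kernel

theorem dp_injective : Function.Injective dp := fun a b h =>
  tab_injective a b fun i => congrArg (fun σ : Equiv.Perm (Fin 7) => σ i) h

theorem dp_one_eq :
    dp 1 = Equiv.swap 0 2 * Equiv.swap 2 1 * Equiv.swap 1 3 * Equiv.swap 4 5 :=
  Equiv.ext (by decide +kernel)

theorem dp_four_eq : dp 4 = Equiv.swap 0 1 * Equiv.swap 4 5 := Equiv.ext (by decide +kernel)

theorem sign_dp (a : Fin 8) : Equiv.Perm.sign (dp a) = 1 := by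
  have h1 : Equiv.Perm.sign (dp 1) = 1 := by
    rw [dp_one_eq, map_mul, map_mul, map_mul, Equiv.Perm.sign_swap (by decide),
      Equiv.Perm.sign_swap (by decide), Equiv.Perm.sign_swap (by decide),
      Equiv.Perm.sign_swap (by decide)]
    rfl
  have h4 : Equiv.Perm.sign (dp 4) = 1 := by
    rw [dp_four_eq, map_mul, Equiv.Perm.sign_swap (by decide), Equiv.Perm.sign_swap (by decide)]
    rfl
  have hm : ∀ x y, Equiv.Perm.sign (dp x) = 1 → Equiv.Perm.sign (dp y) = 1 →
      Equiv.Perm.sign (dp (mulIdx x y)) = 1 := fun x y hx hy => by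
    rw [← dp_mul, map_mul, hx, hy, one_mul]
  have h0 : Equiv.Perm.sign (dp 0) = 1 := by rw [dp_zero, map_one]
  have h2 := hm 1 1 h1 h1
  have h3 := hm 2 1 h2 h1
  fin_cases a
  · exact h0
  · exact h1
  · exact h2
  · exact h3
  · exact h4
  · exact hm 1 4 h1 h4
  · exact hm 2 4 h2 h4
  · exact hm 3 4 h3 h4

/-! ### Sign vectors -/

/-- An even number of marks. -/
abbrev EvenMarks (v : Fin 7 → Bool) : Prop :=
  (Finset.univ.filter fun i => v i = true).card % 2 = 0

theorem card_evenMarks :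
    (Finset.univ.filter fun v : Fin 7 → Bool => EvenMarks v).card = 64 := by decide +kernel

theorem card_fixed_one_bool : ∀ a : Fin 8, a ≠ 0 → mulIdx a a = 0 →
    (Finset.univ.filter (fun v : Fin 7 → Bool =>
      EvenMarks v ∧ ∀ i, v (tab a i) = v i)).card ≤ 16 := by decide +kernel

theorem card_fixed_two_bool : ∀ a b : Fin 8, a ≠ 0 → b ≠ 0 → a ≠ b → mulIdx a a = 0 →
    mulIdx b b = 0 → mulIdx a b = mulIdx b a →
    (Finset.univ.filter (fun v : Fin 7 → Bool =>
      EvenMarks v ∧ (∀ i, v (tab a i) = v i) ∧ ∀ i, v (tab b i) = v i)).card ≤ 8 := by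
  decide +kernel

/-- Signs as marks. -/
def mark (u : ℤˣ) : Bool := decide (u = -1)

theorem mark_injective : Function.Injective mark := by
  intro u v h
  rcases Int.units_eq_one_or u with rfl | rfl <;> rcases Int.units_eq_one_or v with rfl | rfl <;>
    first | rfl | (simp [mark] at h)

theorem evenMarks_of_prod {ε : Fin 7 → ℤˣ} (h : ∏ i, ε i = 1) :
    EvenMarks fun i => mark (ε i) := by
  have h1 : ∏ i, ε i = (-1) ^ (Finset.univ.filter fun i => mark (ε i) = true).card := by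
    rw [← Finset.prod_const, Finset.prod_filter]
    refine Finset.prod_congr rfl fun i _ => ?_
    rcases Int.units_eq_one_or (ε i) with e | e <;> simp [e, mark]
  rw [h] at h1
  show (Finset.univ.filter fun i => mark (ε i) = true).card % 2 = 0
  rcases Nat.even_or_odd (Finset.univ.filter fun i => mark (ε i) = true).card with he | ho
  · exact Nat.even_iff.1 he
  · rw [ho.neg_one_pow] at h1
    exact absurd h1 (by decide)

theorem card_le_of_marks (P : (Fin 7 → ℤˣ) → Prop) (P' : (Fin 7 → Bool) → Prop) [DecidablePred P']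
    (h : ∀ ε, P ε → P' fun i => mark (ε i)) :
    Nat.card {ε : Fin 7 → ℤˣ // P ε} ≤ (Finset.univ.filter P').card := by
  classical
  rw [← Fintype.card_subtype, ← Nat.card_eq_fintype_card]
  refine Nat.card_le_card_of_injective
    (fun ε => (⟨fun i => mark (ε.1 i), h _ ε.2⟩ : {v : Fin 7 → Bool // P' v})) fun x y hxy => ?_
  exact Subtype.ext (funext fun i => mark_injective (congrFun (congrArg Subtype.val hxy) i))

theorem card_even_signs : Nat.card {ε : Fin 7 → ℤˣ // ∏ i, ε i = 1} = 64 := by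
  classical
  apply le_antisymm
  · exact (card_le_of_marks _ _ fun ε h => evenMarks_of_prod h).trans card_evenMarks.le
  · let f : (Fin 6 → ℤˣ) → {ε : Fin 7 → ℤˣ // ∏ i, ε i = 1} := fun δ =>
      ⟨Fin.cons (∏ i, δ i) δ, by rw [Fin.prod_univ_succ, Fin.cons_zero]; simp⟩
    have hf : Function.Injective f := fun x y hxy => by
      have h := congrArg Subtype.val hxy
      simp only [f] at h
      have h' := congrArg Fin.tail h
      rwa [Fin.tail_cons, Fin.tail_cons] at h'
    have := Nat.card_le_card_of_injective f hf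
    simpa [Nat.card_eq_fintype_card, Fintype.card_units_int] using this

theorem card_fixed_one (a : Fin 8) (ha : a ≠ 0) (ha2 : mulIdx a a = 0) :
    Nat.card {ε : Fin 7 → ℤˣ // ∏ i, ε i = 1 ∧ ∀ i, ε (tab a i) = ε i} ≤ 16 :=
  (card_le_of_marks _ (fun v => EvenMarks v ∧ ∀ i, v (tab a i) = v i) fun _ε h =>
    ⟨evenMarks_of_prod h.1, fun i => congrArg mark (h.2 i)⟩).trans (card_fixed_one_bool a ha ha2)

theorem card_fixed_two (a b : Fin 8) (ha : a ≠ 0) (hb : b ≠ 0) (hab : a ≠ b)
    (ha2 : mulIdx a a = 0) (hb2 : mulIdx b b = 0) (hc : mulIdx a b = mulIdx b a) :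
    Nat.card {ε : Fin 7 → ℤˣ //
      ∏ i, ε i = 1 ∧ (∀ i, ε (tab a i) = ε i) ∧ ∀ i, ε (tab b i) = ε i} ≤ 8 :=
  (card_le_of_marks _ (fun v => EvenMarks v ∧ (∀ i, v (tab a i) = v i) ∧ ∀ i, v (tab b i) = v i)
    fun _ε h => ⟨evenMarks_of_prod h.1, fun i => congrArg mark (h.2.1 i),
      fun i => congrArg mark (h.2.2 i)⟩).trans (card_fixed_two_bool a b ha hb hab ha2 hb2 hc)

theorem commuting_three : ∀ a b c : Fin 8, a ≠ 0 → b ≠ 0 → a ≠ b → mulIdx a a = 0 →
    mulIdx b b = 0 → mulIdx c c = 0 → mulIdx a b = mulIdx b a → mulIdx a c = mulIdx c a →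
    mulIdx b c = mulIdx c b → c = 0 ∨ c = a ∨ c = b ∨ c = mulIdx a b := by decide +kernel

/-! ### The normaliser in the alternating group -/

theorem six_fixed : ∀ k, tab k 6 = 6 := by decide +kernel

theorem only_six : ∀ a : Fin 7, tab 1 a = a → tab 4 a = a → a = 6 := by decide +kernel

/-- The permutation forced by the images of `0` and `4`. -/
def cand (k : Fin 8) (a e : Fin 7) : Fin 7 → Fin 7 :=
  ![a, tab k (tab k a), tab k a, tab k (tab k (tab k a)), e, tab k e, 6]

/-- The transposition of `4` and `5`. -/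
def sw45 : Fin 7 → Fin 7 := ![0, 1, 2, 3, 5, 4, 6]

theorem cand_mem : ∀ k k' : Fin 8, ∀ a e : Fin 7,
    (∀ i j, cand k a e i = cand k a e j → i = j) →
    (∀ i, cand k a e (tab 1 i) = tab k (cand k a e i)) →
    (∀ i, cand k a e (tab 4 i) = tab k' (cand k a e i)) →
      ∃ m : Fin 8, (∀ i, cand k a e i = tab m i) ∨ (∀ i, cand k a e i = tab m (sw45 i)) := by
  decide +kernel

theorem sw45_eq : ∀ i, sw45 i = Equiv.swap (4 : Fin 7) 5 i := by decide +kernel

/-- An even permutation normalising the dihedral group lies in it. -/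
theorem eq_dp_of_normalizes {σ : Equiv.Perm (Fin 7)} (hs : Equiv.Perm.sign σ = 1)
    (h : ∀ k, ∃ m, σ * dp k * σ⁻¹ = dp m) : ∃ m, σ = dp m := by
  have hsurj : ∀ m, ∃ k, σ * dp k * σ⁻¹ = dp m := by
    choose f hf using h
    have hinj : Function.Injective f := fun x y hxy => by
      have := (hf x).trans ((congrArg dp hxy).trans (hf y).symm)
      exact dp_injective (mul_left_cancel (mul_right_cancel this))
    intro m
    obtain ⟨k, rfl⟩ := (Finite.injective_iff_surjective.1 hinj) m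
    exact ⟨k, hf k⟩
  obtain ⟨k, hk⟩ := h 1
  obtain ⟨k', hk'⟩ := h 4
  have e1 : ∀ i, σ (tab 1 i) = tab k (σ i) := fun i => by
    show σ (dp 1 i) = dp k (σ i)
    rw [← hk]; simp
  have e4 : ∀ i, σ (tab 4 i) = tab k' (σ i) := fun i => by
    show σ (dp 4 i) = dp k' (σ i)
    rw [← hk']; simp
  have h6 : σ 6 = 6 := by
    have hfix : ∀ m, tab m (σ 6) = σ 6 := fun m => by
      obtain ⟨j, hj⟩ := hsurj m
      show dp m (σ 6) = σ 6
      rw [← hj]
      show σ (dp j (σ⁻¹ (σ 6))) = σ 6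
      rw [show σ⁻¹ (σ 6) = 6 from σ.symm_apply_apply 6]
      exact congrArg σ (six_fixed j)
    exact only_six _ (hfix 1) (hfix 4)
  have hv : ∀ i, cand k (σ 0) (σ 4) i = σ i := by
    have f2 : tab 1 0 = 2 := rfl
    have f1 : tab 1 2 = 1 := rfl
    have f3 : tab 1 1 = 3 := rfl
    have f5 : tab 1 4 = 5 := rfl
    intro i
    fin_cases i
    · rfl
    · show tab k (tab k (σ 0)) = σ 1
      rw [← e1, f2, ← e1, f1]
    · show tab k (σ 0) = σ 2
      rw [← e1, f2]
    · show tab k (tab k (tab k (σ 0))) = σ 3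
      rw [← e1, f2, ← e1, f1, ← e1, f3]
    · rfl
    · show tab k (σ 4) = σ 5
      rw [← e1, f5]
    · exact h6.symm
  obtain ⟨m, hm⟩ := cand_mem k k' (σ 0) (σ 4)
    (fun i j hij => σ.injective (by rwa [hv, hv] at hij))
    (fun i => by rw [hv, hv, e1]) (fun i => by rw [hv, hv, e4])
  rcases hm with hh | hh
  · exact ⟨m, Equiv.ext fun i => (hv i).symm.trans (hh i)⟩
  · exfalso
    have : σ = dp m * Equiv.swap 4 5 := Equiv.ext fun i => by
      rw [← hv i, hh i, sw45_eq]; rfl
    rw [this, map_mul, sign_dp, Equiv.Perm.sign_swap (by decide)] at hs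
    exact absurd hs (by decide)

theorem exists_conj_zero : ∃ σ τ : Equiv.Perm (Fin 7),
    Equiv.Perm.sign σ = 1 ∧ Equiv.Perm.sign τ = 1 ∧
      (∀ i, σ ((Equiv.swap 0 2 * Equiv.swap 1 3 : Equiv.Perm (Fin 7)) i) = tab 4 (σ i)) ∧
      (∀ i, τ ((Equiv.swap 0 2 * Equiv.swap 1 3 : Equiv.Perm (Fin 7)) i) = tab 5 (τ i)) := by
  refine ⟨Equiv.swap 2 4 * Equiv.swap 2 1 * Equiv.swap 3 5 * Equiv.swap 0 2,
    Equiv.swap 2 3 * Equiv.swap 0 2, ?_, ?_, by decide +kernel, by decide +kernel⟩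
  · rw [map_mul, map_mul, map_mul, Equiv.Perm.sign_swap (by decide),
      Equiv.Perm.sign_swap (by decide), Equiv.Perm.sign_swap (by decide),
      Equiv.Perm.sign_swap (by decide)]
    rfl
  · rw [map_mul, Equiv.Perm.sign_swap (by decide), Equiv.Perm.sign_swap (by decide)]
    rfl

theorem dp_eq_word : ∀ a : Fin 8, a = 0 ∨ a = 4 ∨ a = 5 ∨ a = mulIdx 5 4 ∨ a = mulIdx (mulIdx 5 4) (mulIdx 5 4) ∨
    a = mulIdx (mulIdx (mulIdx 5 4) (mulIdx 5 4)) (mulIdx 5 4) ∨
    a = mulIdx (mulIdx 5 4) 5 ∨ a = mulIdx (mulIdx (mulIdx 5 4) (mulIdx 5 4)) 5 := by decide +kernel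

end CfsgLib.OmegaSeven
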