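import Mathlib
import Cfsg.Prelude.Def_FusionSystem
import Cfsg.Prelude.Def_KGroupFacts
import Cfsg.Agent.Lib.OmegaSeven.Frame
import Cfsg.Agent.Lib.OmegaSeven.Tables
import Cfsg.Agent.Lib.FusionQuot.SimpleCriterion

/-!
The 2-fusion of `Ω₇(q)` for `q ≡ ±3 (mod 8)`: the Sylow subgroup is monomial and self-normalising and
has no proper nontrivial strongly closed subgroup.
-/

set_option autoImplicit false
set_option linter.unusedSectionVars false
set_option maxHeartbeats 1000000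

namespace CfsgLib.OmegaSeven

open Matrix Cfsg
open CfsgLib.OrthSpinor
open QuadraticMap (polar)

variable {ι : Type} [Fintype ι] [DecidableEq ι] {F : Type*} [Field F] [Fintype F]
variable {Q : QuadraticForm F (ι → F)} (K : Frame Q)

namespace Frame

/-- The monomial Sylow subgroup. -/
noncomputable def syl : Subgroup ↥(Omega F ⇑Q) where
  carrier := {g | ∃ ε k, (g : ↥(isometryGroup F ⇑Q)) = K.mo ε (dp k)}
  one_mem' := ⟨1, 0, by rw [dp_zero, K.mo_one]; rfl⟩
  mul_mem' := by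
    rintro x y ⟨ε, a, hx⟩ ⟨δ, b, hy⟩
    exact ⟨_, mulIdx a b, by rw [Subgroup.coe_mul, hx, hy, K.mo_mul, dp_mul]⟩
  inv_mem' := by
    rintro x ⟨ε, a, hx⟩
    refine ⟨fun i => ε (dp a i), invIdx a, ?_⟩
    rw [Subgroup.coe_inv, hx, inv_eq_iff_mul_eq_one, ← dp_inv, K.mo_mul, mul_inv_cancel,
      ← K.mo_one]
    congr 1
    funext i
    show ε i * ε (dp a ((dp a).symm i)) = 1
    rw [Equiv.apply_symm_apply, Int.units_mul_self]

/-- The sign changes in the monomial subgroup. -/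
noncomputable def diag : Subgroup ↥(Omega F ⇑Q) where
  carrier := {g | ∃ ε, (g : ↥(isometryGroup F ⇑Q)) = K.mo ε 1}
  one_mem' := ⟨1, by rw [K.mo_one]; rfl⟩
  mul_mem' := by
    rintro x y ⟨ε, hx⟩ ⟨δ, hy⟩
    exact ⟨_, by rw [Subgroup.coe_mul, hx, hy, K.mo_mul, mul_one]⟩
  inv_mem' := by
    rintro x ⟨ε, hx⟩
    refine ⟨ε, ?_⟩
    rw [Subgroup.coe_inv, hx, inv_eq_iff_mul_eq_one, K.mo_mul, mul_one, ← K.mo_one]
    congr 1
    funext i
    exact Int.units_mul_self (ε i)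

theorem diag_le_syl : K.diag ≤ K.syl := by
  rintro g ⟨ε, hg⟩
  exact ⟨ε, 0, by rw [hg, dp_zero]⟩

variable (hQ : (QuadraticMap.polarBilin Q).Nondegenerate) (hn : 2 ≤ Fintype.card ι)

/-- An element of `Ω` from an even signed permutation. -/
noncomputable def elt (ε : Fin 7 → ℤˣ) (σ : Equiv.Perm (Fin 7)) (h : ∏ i, ε i = 1)
    (h' : Equiv.Perm.sign σ = 1) : ↥(Omega F ⇑Q) :=
  ⟨K.mo ε σ, (K.mo_mem_iff hQ hn ε σ).2 ⟨h, h'⟩⟩

include hQ hn in
theorem prod_eq_one_of_mem {g : ↥(Omega F ⇑Q)} {ε : Fin 7 → ℤˣ} {σ : Equiv.Perm (Fin 7)}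
    (hg : (g : ↥(isometryGroup F ⇑Q)) = K.mo ε σ) : ∏ i, ε i = 1 ∧ Equiv.Perm.sign σ = 1 :=
  (K.mo_mem_iff hQ hn ε σ).1 (hg ▸ g.2)

include hQ hn in
theorem card_diag : Nat.card K.diag = 64 := by
  rw [← card_even_signs]
  refine (Nat.card_congr (Equiv.ofBijective
    (fun ε : {ε : Fin 7 → ℤˣ // ∏ i, ε i = 1} =>
      (⟨K.elt hQ hn ε.1 1 ε.2 (map_one _), ε.1, rfl⟩ : K.diag)) ⟨fun x y h => ?_, fun x => ?_⟩)).symm
  · exact Subtype.ext (K.mo_inj (congrArg (fun z : K.diag => ((z : ↥(Omega F ⇑Q)) :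
      ↥(isometryGroup F ⇑Q))) h)).1
  · obtain ⟨ε, hε⟩ := x.2
    exact ⟨⟨ε, (K.prod_eq_one_of_mem hQ hn hε).1⟩, Subtype.ext (Subtype.ext hε.symm)⟩

include hQ hn in
theorem card_syl : Nat.card K.syl = 512 := by
  have h : Nat.card ({ε : Fin 7 → ℤˣ // ∏ i, ε i = 1} × Fin 8) = 512 := by
    rw [Nat.card_prod, card_even_signs, Nat.card_fin]
  rw [← h]
  refine (Nat.card_congr (Equiv.ofBijective
    (fun ε : {ε : Fin 7 → ℤˣ // ∏ i, ε i = 1} × Fin 8 =>
      (⟨K.elt hQ hn ε.1.1 (dp ε.2) ε.1.2 (sign_dp _), ε.1.1, ε.2, rfl⟩ : K.syl))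
    ⟨fun x y h => ?_, fun x => ?_⟩)).symm
  · obtain ⟨h1, h2⟩ := K.mo_inj (congrArg (fun z : K.syl => ((z : ↥(Omega F ⇑Q)) :
      ↥(isometryGroup F ⇑Q))) h)
    exact Prod.ext (Subtype.ext h1) (dp_injective h2)
  · obtain ⟨ε, k, hε⟩ := x.2
    exact ⟨⟨⟨ε, (K.prod_eq_one_of_mem hQ hn hε).1⟩, k⟩, Subtype.ext (Subtype.ext hε.symm)⟩

include hQ hn in
theorem card_le_aux (A : Subgroup ↥(Omega F ⇑Q)) (hc : ∀ x ∈ A, ∀ y ∈ A, x * y = y * x)
    (e : A → Fin 7 → ℤˣ) (k : A → Fin 8)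
    (he : ∀ x : A, ((x : ↥(Omega F ⇑Q)) : ↥(isometryGroup F ⇑Q)) = K.mo (e x) (dp (k x)))
    (hk2 : ∀ x : A, mulIdx (k x) (k x) = 0) (I : Finset (Fin 8)) (hmemI : ∀ x, k x ∈ I)
    (hrep₀ : ∀ j ∈ I, ∃ x, k x = j) (C : (Fin 7 → ℤˣ) → Prop)
    (hC : ∀ δ, ∏ i, δ i = 1 → (∀ j ∈ I, ∀ i, δ (tab j i) = δ i) → C δ) :
    Nat.card A ≤ I.card * Nat.card {δ : Fin 7 → ℤˣ // C δ} := by
  choose rep hrep using hrep₀
  let r : A → A := fun x => rep (k x) (hmemI x)
  let δ : A → Fin 7 → ℤˣ := fun x => e x * fun i => e (r x) ((dp (k x)).symm i)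
  have hδ : ∀ x : A, (((x * r x : A) : ↥(Omega F ⇑Q)) : ↥(isometryGroup F ⇑Q)) = K.mo (δ x) 1 := by
    intro x
    have hkr : k (r x) = k x := hrep _ _
    rw [Subgroup.coe_mul, Subgroup.coe_mul, he x, he (r x), K.mo_mul, hkr, dp_mul, hk2, dp_zero]
  have hCδ : ∀ x, C (δ x) := by
    intro x
    refine hC _ (K.prod_eq_one_of_mem hQ hn (hδ x)).1 fun j hj i => ?_
    have hcomm := congrArg Subtype.val
      (hc ((x * r x : A) : ↥(Omega F ⇑Q)) (x * r x).2 (rep j hj : ↥(Omega F ⇑Q)) (rep j hj).2)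
    rw [Subgroup.coe_mul (Omega F ⇑Q), Subgroup.coe_mul (Omega F ⇑Q), hδ x, he (rep j hj), K.mo_mul,
      K.mo_mul, hrep j hj] at hcomm
    have := congrFun (K.mo_inj hcomm).1 (tab j i)
    simp only [Pi.mul_apply] at this
    rw [show (dp j).symm (tab j i) = i from (dp j).symm_apply_apply i,
      show ((1 : Equiv.Perm (Fin 7)).symm (tab j i)) = tab j i from rfl, mul_comm] at this
    exact mul_left_cancel this
  let f : A → I × {δ : Fin 7 → ℤˣ // C δ} := fun x => (⟨k x, hmemI x⟩, ⟨δ x, hCδ x⟩)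
  have hinj : Function.Injective f := by
    intro x y hxy
    have h1 : k x = k y := congrArg (fun z => (z.1 : Fin 8)) hxy
    have h2 : δ x = δ y := congrArg (fun z => z.2.1) hxy
    have hr : r x = r y := by simp only [r, h1]
    have h : x * r x = y * r y := Subtype.ext (Subtype.ext (by rw [hδ x, hδ y, h2]))
    rw [hr] at h
    exact mul_right_cancel h
  refine (Nat.card_le_card_of_injective f hinj).trans ?_
  rw [Nat.card_prod, Nat.card_eq_finsetCard]

include hQ hn in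
/-- The sign changes form the only elementary abelian subgroup of order `64`. -/
theorem le_diag {A : Subgroup ↥(Omega F ⇑Q)} (hA : A ≤ K.syl)
    (hc : ∀ x ∈ A, ∀ y ∈ A, x * y = y * x) (h2 : ∀ x ∈ A, x * x = 1) (hcard : Nat.card A = 64) :
    A ≤ K.diag := by
  classical
  choose e k he using fun x : A => hA x.2
  have hkc : ∀ x y : A, mulIdx (k x) (k y) = mulIdx (k y) (k x) := by
    intro x y
    have h := congrArg Subtype.val (hc x x.2 y y.2)
    rw [Subgroup.coe_mul, Subgroup.coe_mul, he, he, K.mo_mul, K.mo_mul, dp_mul, dp_mul] at h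
    exact dp_injective (K.mo_inj h).2
  have hk2 : ∀ x : A, mulIdx (k x) (k x) = 0 := by
    intro x
    have h := congrArg Subtype.val (h2 x x.2)
    rw [Subgroup.coe_mul, he, K.mo_mul, dp_mul, OneMemClass.coe_one, ← K.mo_one, ← dp_zero] at h
    exact dp_injective (K.mo_inj h).2
  by_contra hnot
  obtain ⟨x₀, hx₀A, hx₀⟩ := SetLike.not_le_iff_exists.1 hnot
  set a := k ⟨x₀, hx₀A⟩ with ha
  have ha0 : a ≠ 0 := fun h => hx₀ ⟨e ⟨x₀, hx₀A⟩, by
    rw [show (x₀ : ↥(isometryGroup F ⇑Q)) = _ from he ⟨x₀, hx₀A⟩, ← ha, h, dp_zero]⟩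
  set I : Finset (Fin 8) := Finset.univ.image k with hI
  have hmemI : ∀ x : A, k x ∈ I := fun x => Finset.mem_image_of_mem k (Finset.mem_univ x)
  have hbound : ∀ (C : (Fin 7 → ℤˣ) → Prop),
      (∀ δ, ∏ i, δ i = 1 → (∀ j ∈ I, ∀ i, δ (tab j i) = δ i) → C δ) →
      64 ≤ I.card * Nat.card {δ : Fin 7 → ℤˣ // C δ} := fun C hC =>
    hcard ▸ K.card_le_aux hQ hn A hc e k he hk2 I hmemI
      (fun j hj => (Finset.mem_image.1 hj).imp fun _ h => h.2) C hC
  by_cases hb : ∀ j ∈ I, j = 0 ∨ j = a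
  · have h1 := hbound (fun δ => ∏ i, δ i = 1 ∧ ∀ i, δ (tab a i) = δ i)
      fun δ h1 h2 => ⟨h1, h2 a (hmemI ⟨x₀, hx₀A⟩)⟩
    have h3 : I.card ≤ 2 :=
      (Finset.card_le_card (t := {0, a}) fun j hj => by simpa using hb j hj).trans Finset.card_le_two
    have := h1.trans (Nat.mul_le_mul h3 (card_fixed_one a ha0 (hk2 _)))
    omega
  · push Not at hb
    obtain ⟨b, hbI, hb0, hba⟩ := hb
    obtain ⟨y, -, hy⟩ := Finset.mem_image.1 hbI
    have hb2 : mulIdx b b = 0 := hy ▸ hk2 y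
    have hab : mulIdx a b = mulIdx b a := hy ▸ hkc _ y
    have h1 := hbound
      (fun δ => ∏ i, δ i = 1 ∧ (∀ i, δ (tab a i) = δ i) ∧ ∀ i, δ (tab b i) = δ i)
      fun δ h1 h2 => ⟨h1, h2 a (hmemI ⟨x₀, hx₀A⟩), h2 b hbI⟩
    have h3 : I.card ≤ 4 := by
      refine (Finset.card_le_card (t := {0, a, b, mulIdx a b}) fun j hj => ?_).trans Finset.card_le_four
      obtain ⟨w, -, hw⟩ := Finset.mem_image.1 hj
      simpa using commuting_three a b j ha0 hb0 (Ne.symm hba) (hk2 _) hb2 (hw ▸ hk2 w) hab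
        (hw ▸ hkc _ w) (by rw [← hy, ← hw]; exact hkc y w)
    have := h1.trans (Nat.mul_le_mul h3 (card_fixed_two a b ha0 hb0 (Ne.symm hba) (hk2 _) hb2 hab))
    omega

theorem repr_eps (ε : Fin 7 → ℤˣ) (x : ι → F) (j : Fin 7) :
    K.b.repr (act Q (K.mo ε 1) x) j = sc F (ε j) * K.b.repr x j := by
  have h : (K.b.coord j).comp (actLin (K.mo ε 1)) = sc F (ε j) • K.b.coord j := by
    refine K.b.ext fun i => ?_
    show K.b.repr (act Q (K.mo ε 1) (K.b i)) j = sc F (ε j) * K.b.repr (K.b i) j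
    rw [act_mo, map_smul, Finsupp.smul_apply, Equiv.Perm.one_apply, Module.Basis.repr_self,
      smul_eq_mul]
    rcases eq_or_ne i j with rfl | h
    · rfl
    · rw [Finsupp.single_eq_of_ne (Ne.symm h), mul_zero, mul_zero]
  exact LinearMap.congr_fun h x

include hQ hn in
/-- An element normalising the sign changes is monomial. -/
theorem exists_mo_of_normalizes {g : ↥(Omega F ⇑Q)}
    (hg : ∀ d ∈ K.diag, g⁻¹ * d * g ∈ K.diag) :
    ∃ ε σ, (g : ↥(isometryGroup F ⇑Q)) = K.mo ε σ := by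
  classical
  set x : Fin 7 → ι → F := fun i => act Q (g : ↥(isometryGroup F ⇑Q)) (K.b i) with hx
  have hxo : ∀ i j, polar (⇑Q) (x i) (x j) = if i = j then 2 * K.c else 0 := fun i j => by
    rw [hx, polar_act, K.hb]
  have hone : ∀ i, ∃ j u, x i = sc F u • K.b j := by
    intro i
    obtain ⟨j, hj⟩ : ∃ j, K.b.repr (x i) j ≠ 0 := by
      by_contra h
      push Not at h
      have h0 : x i = 0 := K.b.repr.injective (by rw [map_zero]; exact Finsupp.ext h)
      have := hxo i i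
      rw [h0, if_pos rfl, QuadraticMap.polar_self, map_zero, nsmul_zero] at this
      exact mul_ne_zero K.h2 K.hc this.symm
    have honly : ∀ l, l ≠ j → K.b.repr (x i) l = 0 := by
      intro l hl
      by_contra hl0
      obtain ⟨m, hmj, hml⟩ :=
        (by decide : ∀ a b : Fin 7, ∃ m : Fin 7, m ≠ a ∧ m ≠ b) j l
      set δ : Fin 7 → ℤˣ := Pi.mulSingle j (-1) * Pi.mulSingle m (-1) with hδ
      have hδ1 : ∏ t, δ t = 1 := by
        simp [hδ, Finset.prod_mul_distrib, Finset.prod_pi_mulSingle']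
      obtain ⟨η, hη⟩ := hg (K.elt hQ hn δ 1 hδ1 (map_one _)) ⟨δ, rfl⟩
      have hrel : act Q (K.mo δ 1) (x i) = sc F (η i) • x i := by
        have h0 : K.mo δ 1 * (g : ↥(isometryGroup F ⇑Q)) = g * K.mo η 1 := by
          rw [← hη]
          simp [elt, mul_assoc]
        have h1 : act Q (K.mo δ 1 * (g : ↥(isometryGroup F ⇑Q))) (K.b i) =
            act Q ((g : ↥(isometryGroup F ⇑Q)) * K.mo η 1) (K.b i) := by rw [h0]
        rw [act_mul, act_mul, act_mo, Equiv.Perm.one_apply, act_smul] at h1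
        exact h1
      have e1 := K.repr_eps δ (x i) j
      have e2 := K.repr_eps δ (x i) l
      rw [hrel, map_smul, Finsupp.smul_apply, smul_eq_mul] at e1 e2
      have d1 : δ j = -1 := by simp [hδ, hmj.symm]
      have d2 : δ l = 1 := by simp [hδ, hl, hml.symm]
      rw [d1, sc_neg_one] at e1
      rw [d2, map_one] at e2
      have f1 := mul_right_cancel₀ hj e1
      have f2 := mul_right_cancel₀ hl0 e2
      exact K.h2 (by linear_combination f2.symm.trans f1)
    have hxeq : x i = K.b.repr (x i) j • K.b j := by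
      apply K.b.repr.injective
      rw [map_smul, Module.Basis.repr_self]
      ext l
      rcases eq_or_ne l j with rfl | h
      · simp
      · rw [honly l h]
        simp [Finsupp.single_eq_of_ne h]
    have hsq : K.b.repr (x i) j * K.b.repr (x i) j = 1 := by
      have := hxo i i
      rw [if_pos rfl, hxeq, QuadraticMap.polar_smul_left, QuadraticMap.polar_smul_right, K.hb,
        if_pos rfl, smul_eq_mul, smul_eq_mul, ← mul_assoc] at this
      exact mul_right_cancel₀ (mul_ne_zero K.h2 K.hc) (this.trans (one_mul _).symm)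
    rcases mul_self_eq_one_iff.1 hsq with h | h
    · exact ⟨j, 1, by rw [hxeq, h, map_one]⟩
    · exact ⟨j, -1, by rw [hxeq, h, sc_neg_one]⟩
  choose σ u hu using hone
  have hσ : Function.Injective σ := by
    intro i j hij
    by_contra hne
    have := hxo i j
    rw [if_neg hne, hu, hu, hij, QuadraticMap.polar_smul_left, QuadraticMap.polar_smul_right, K.hb,
      if_pos rfl, smul_eq_mul, smul_eq_mul] at this
    have h1 := sc_mul_self (F := F) (u i)
    have h2 := sc_mul_self (F := F) (u j)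
    refine mul_ne_zero K.h2 K.hc ?_
    linear_combination (sc F (u i) * sc F (u j)) * this - 2 * K.c * h1 -
      2 * K.c * sc F (u i) * sc F (u i) * h2
  let π := Equiv.ofBijective σ (Finite.injective_iff_bijective.1 hσ)
  refine ⟨fun j => u (π.symm j), π, K.ext_basis fun i => ?_⟩
  rw [K.act_mo, Equiv.symm_apply_apply]
  exact hu i

include hQ hn in
theorem normalizer_syl : Subgroup.normalizer (K.syl : Set ↥(Omega F ⇑Q)) = K.syl := by
  refine le_antisymm (fun g hg => ?_) Subgroup.le_normalizer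
  have hmap : ∀ d ∈ K.diag, g⁻¹ * d * g ∈ K.diag := by
    intro d hd
    have hle : K.diag.map (MulAut.conj g⁻¹).toMonoidHom ≤ K.diag := by
      refine K.le_diag hQ hn ?_ ?_ ?_ ?_
      · rintro y ⟨z, hz, rfl⟩
        show g⁻¹ * z * g⁻¹⁻¹ ∈ K.syl
        exact (Subgroup.mem_normalizer_iff.1 (inv_mem hg) z).1 (K.diag_le_syl hz)
      · rintro _ ⟨z, ⟨e, he⟩, rfl⟩ _ ⟨w, ⟨f, hf⟩, rfl⟩
        rw [← map_mul, ← map_mul]
        congr 1
        refine Subtype.ext ?_
        rw [Subgroup.coe_mul, Subgroup.coe_mul, he, hf, K.mo_mul, K.mo_mul]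
        congr 1
        exact mul_comm _ _
      · rintro _ ⟨z, ⟨e, he⟩, rfl⟩
        rw [← map_mul]
        refine (congrArg _ (Subtype.ext ?_)).trans (map_one _)
        rw [Subgroup.coe_mul, he, K.mo_mul, mul_one, OneMemClass.coe_one, ← K.mo_one]
        congr 1
        funext i
        exact Int.units_mul_self (e i)
      · rw [Subgroup.card_map_of_injective (MulAut.conj g⁻¹).injective, K.card_diag hQ hn]
    have := hle (Subgroup.mem_map_of_mem _ hd)
    simpa using this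
  obtain ⟨ε, σ, hgo⟩ := K.exists_mo_of_normalizes hQ hn hmap
  obtain ⟨hε, hσ⟩ := K.prod_eq_one_of_mem hQ hn hgo
  obtain ⟨m, hm⟩ := eq_dp_of_normalizes hσ fun k => by
    obtain ⟨η, m, hη⟩ := (Subgroup.mem_normalizer_iff.1 hg
      (K.elt hQ hn 1 (dp k) (by simp) (sign_dp k))).1 ⟨1, k, rfl⟩
    refine ⟨m, mul_inv_eq_of_eq_mul ?_⟩
    have h : K.mo ε σ * K.mo 1 (dp k) = K.mo η (dp m) * K.mo ε σ := by
      rw [← hgo, ← hη]
      simp [elt]
    rw [K.mo_mul, K.mo_mul] at h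
    exact (K.mo_inj h).2
  exact ⟨ε, m, hm ▸ hgo⟩

include hQ hn in
/-- No proper nontrivial subgroup of the monomial Sylow subgroup is strongly closed. -/
theorem syl_le_of_closed {T : Subgroup ↥(Omega F ⇑Q)} (hT : T ≤ K.syl) (hne : T ≠ ⊥)
    (hcl : ∀ x ∈ T, ∀ g, g * x * g⁻¹ ∈ K.syl → g * x * g⁻¹ ∈ T) : K.syl ≤ T := by
  classical
  have hconj : ∀ g x y, x ∈ T → y ∈ K.syl → g * x = y * g → y ∈ T := by
    intro g x y hx hy h
    have : g * x * g⁻¹ = y := mul_inv_eq_of_eq_mul h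
    exact this ▸ hcl x hx g (this ▸ hy)
  let TD : (Fin 7 → ℤˣ) → Prop := fun ε => ∃ t ∈ T, (t : ↥(isometryGroup F ⇑Q)) = K.mo ε 1
  have hmul : ∀ ε δ, TD ε → TD δ → TD (ε * δ) := by
    rintro ε δ ⟨s, hs, hs'⟩ ⟨t, ht, ht'⟩
    exact ⟨s * t, mul_mem hs ht, by rw [Subgroup.coe_mul, hs', ht', K.mo_mul, mul_one]; rfl⟩
  have hperm : ∀ ε (σ : Equiv.Perm (Fin 7)), Equiv.Perm.sign σ = 1 → TD ε →
      TD fun i => ε (σ.symm i) := by
    rintro ε σ hσ ⟨t, ht, ht'⟩
    have hp : ∏ i, ε (σ.symm i) = 1 :=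
      (Equiv.prod_comp σ.symm ε).trans (K.prod_eq_one_of_mem hQ hn ht').1
    refine ⟨K.elt hQ hn (fun i => ε (σ.symm i)) 1 hp (map_one _),
      hconj (K.elt hQ hn 1 σ (by simp) hσ) t _ ht
        (K.diag_le_syl ⟨fun i => ε (σ.symm i), rfl⟩) (Subtype.ext ?_), rfl⟩
    show K.mo 1 σ * (t : ↥(isometryGroup F ⇑Q)) = K.mo _ 1 * K.mo 1 σ
    rw [ht', K.mo_mul, K.mo_mul, mul_one, one_mul]
    congr 1
    funext i
    simp
  have h0 : ∃ ε, ε ≠ 1 ∧ TD ε := by
    obtain ⟨x, hxT, hx1⟩ : ∃ x ∈ T, x ≠ 1 := by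
      by_contra h
      push Not at h
      exact hne ((Subgroup.eq_bot_iff_forall T).2 h)
    obtain ⟨ε, k, hx⟩ := hT hxT
    by_cases hk : k = 0
    · refine ⟨ε, fun h => hx1 (Subtype.ext ?_), x, hxT, by rw [hx, hk, dp_zero]⟩
      rw [hx, hk, dp_zero, h, K.mo_one]; rfl
    obtain ⟨i, hi⟩ : ∃ i, tab k i ≠ i := by
      by_contra h
      push Not at h
      exact hk (tab_injective k 0 fun i => (h i).trans (by
        show i = dp 0 i
        rw [dp_zero]; rfl))
    obtain ⟨m, hm1, hm2⟩ : ∃ m : Fin 7, m ≠ i ∧ m ≠ tab k i := by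
      revert hi; generalize tab k i = j; revert i j; decide
    set δ : Fin 7 → ℤˣ := Pi.mulSingle i (-1) * Pi.mulSingle m (-1) with hδ
    have hδ1 : ∏ t, δ t = 1 := by
      simp [hδ, Finset.prod_mul_distrib, Finset.prod_pi_mulSingle']
    set d := K.elt hQ hn δ 1 hδ1 (map_one _) with hd
    have hdS : d ∈ K.syl := K.diag_le_syl ⟨δ, rfl⟩
    have hy : d * x * d⁻¹ * x⁻¹ ∈ T :=
      mul_mem (hcl x hxT d (mul_mem (mul_mem hdS (hT hxT)) (inv_mem hdS))) (inv_mem hxT)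
    obtain ⟨η, l, hη⟩ := hT hy
    have hrel : K.mo δ 1 * K.mo ε (dp k) = K.mo η (dp l) * (K.mo ε (dp k) * K.mo δ 1) := by
      rw [← hη, ← hx, show K.mo δ 1 = (d : ↥(isometryGroup F ⇑Q)) from rfl, ← Subgroup.coe_mul,
        ← Subgroup.coe_mul, ← Subgroup.coe_mul]
      congr 1
      group
    rw [K.mo_mul, K.mo_mul, K.mo_mul, one_mul, mul_one, dp_mul] at hrel
    obtain ⟨h1, h2⟩ := K.mo_inj hrel
    have hl : dp l = 1 := by
      have : dp l * dp k = 1 * dp k := by rw [one_mul, dp_mul, ← h2]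
      exact mul_right_cancel this
    refine ⟨η, fun hη1 => ?_, _, hy, by rw [hη, hl]⟩
    have := congrFun h1 (tab k i)
    simp only [Pi.mul_apply, hη1, Pi.one_apply, one_mul, hl] at this
    change δ (tab k i) * ε (tab k i) =
      ε (tab k i) * δ ((dp k).symm (tab k i)) at this
    rw [show (dp k).symm (tab k i) = i from (dp k).symm_apply_apply i, mul_comm] at this
    have h3 := mul_left_cancel this
    simp [hδ, hi, Ne.symm hm1, Ne.symm hm2] at h3
  obtain ⟨ε, hε1, hεT⟩ := h0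
  obtain ⟨t₀, -, ht₀⟩ := id hεT
  have hεp := (K.prod_eq_one_of_mem hQ hn ht₀).1
  obtain ⟨i, hi⟩ : ∃ i, ε i = -1 := by
    by_contra h
    push Not at h
    exact hε1 (funext fun i => (Int.units_eq_one_or (ε i)).resolve_right (h i))
  obtain ⟨j, hj⟩ : ∃ j, ε j = 1 := by
    by_contra h
    push Not at h
    rw [Finset.prod_congr rfl fun i _ => (Int.units_eq_one_or (ε i)).resolve_left (h i),
      Finset.prod_const] at hεp
    exact absurd hεp (by decide)
  have hij : i ≠ j := fun h => by rw [h, hj] at hi; exact absurd hi (by decide)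
  obtain ⟨l, hli, hlj⟩ : ∃ l : Fin 7, l ≠ i ∧ l ≠ j := by
    revert hij; clear hi hj; revert i j; decide
  set ρ : Equiv.Perm (Fin 7) := Equiv.swap i j * Equiv.swap j l with hρ
  have hρs : Equiv.Perm.sign ρ⁻¹ = 1 := by
    rw [map_inv, hρ, map_mul, Equiv.Perm.sign_swap hij, Equiv.Perm.sign_swap (Ne.symm hlj)]
    rfl
  have h2T : ∃ a b : Fin 7, a ≠ b ∧ TD (Pi.mulSingle a (-1) * Pi.mulSingle b (-1)) := by
    have hε' := hmul _ _ hεT (hperm ε ρ⁻¹ hρs hεT)
    have ri : ρ i = j := by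
      rw [hρ, Equiv.Perm.mul_apply, Equiv.swap_apply_of_ne_of_ne hij hli.symm,
        Equiv.swap_apply_left]
    have rj : ρ j = l := by
      rw [hρ, Equiv.Perm.mul_apply, Equiv.swap_apply_left,
        Equiv.swap_apply_of_ne_of_ne hli hlj]
    have rl : ρ l = i := by
      rw [hρ, Equiv.Perm.mul_apply, Equiv.swap_apply_right, Equiv.swap_apply_right]
    have ro : ∀ t, t ≠ i → t ≠ j → t ≠ l → ρ t = t := fun t h1 h2 h3 => by
      rw [hρ, Equiv.Perm.mul_apply, Equiv.swap_apply_of_ne_of_ne h2 h3,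
        Equiv.swap_apply_of_ne_of_ne h1 h2]
    rcases Int.units_eq_one_or (ε l) with hl | hl
    · refine ⟨i, l, hli.symm, ?_⟩
      convert hε' using 1
      funext t
      show _ = ε t * ε (ρ t)
      rcases eq_or_ne t i with rfl | h1
      · simp [ri, hi, hj, hli.symm]
      rcases eq_or_ne t j with rfl | h2
      · simp [rj, hj, hl, Ne.symm hlj, h1]
      rcases eq_or_ne t l with rfl | h3
      · simp [rl, hl, hi, h1]
      · simp [ro t h1 h2 h3, h1, h3, Int.units_mul_self]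
    · refine ⟨i, j, hij, ?_⟩
      convert hε' using 1
      funext t
      show _ = ε t * ε (ρ t)
      rcases eq_or_ne t i with rfl | h1
      · simp [ri, hi, hj, hij]
      rcases eq_or_ne t j with rfl | h2
      · simp [rj, hj, hl, h1]
      rcases eq_or_ne t l with rfl | h3
      · simp [rl, hl, hi, h1, h2]
      · simp [ro t h1 h2 h3, h1, h2, Int.units_mul_self]
  obtain ⟨a, b, hab, habT⟩ := h2T
  have hall2 : ∀ c d : Fin 7, c ≠ d → TD (Pi.mulSingle c (-1) * Pi.mulSingle d (-1)) := by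
    intro c d hcd
    obtain ⟨π, hπ, hπa, hπb⟩ : ∃ π : Equiv.Perm (Fin 7),
        Equiv.Perm.sign π = 1 ∧ π a = c ∧ π b = d := by
      set π₀ := Equiv.swap (Equiv.swap a c b) d * Equiv.swap a c with hπ₀
      have hne : c ≠ Equiv.swap a c b := fun h => hab ((Equiv.swap a c).injective
        (by rw [Equiv.swap_apply_left]; exact h))
      have ha : π₀ a = c := by
        rw [hπ₀, Equiv.Perm.mul_apply, Equiv.swap_apply_left,
          Equiv.swap_apply_of_ne_of_ne hne hcd]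
      have hb : π₀ b = d := by rw [hπ₀, Equiv.Perm.mul_apply, Equiv.swap_apply_left]
      rcases Int.units_eq_one_or (Equiv.Perm.sign π₀) with h | h
      · exact ⟨π₀, h, ha, hb⟩
      · obtain ⟨e, f, hef, he1, he2, hf1, hf2⟩ :
            ∃ e f : Fin 7, e ≠ f ∧ e ≠ c ∧ e ≠ d ∧ f ≠ c ∧ f ≠ d := by
          clear hne ha hb h hπ₀ π₀ hcd; revert c d; decide
        refine ⟨Equiv.swap e f * π₀, by rw [map_mul, h, Equiv.Perm.sign_swap hef]; rfl, ?_, ?_⟩
        · rw [Equiv.Perm.mul_apply, ha, Equiv.swap_apply_of_ne_of_ne he1.symm hf1.symm]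
        · rw [Equiv.Perm.mul_apply, hb, Equiv.swap_apply_of_ne_of_ne he2.symm hf2.symm]
    convert hperm _ π hπ habT using 1
    funext t
    rw [← hπa, ← hπb]
    simp only [Pi.mul_apply, Pi.mulSingle_apply, Equiv.symm_apply_eq]
  have hone : TD 1 := ⟨1, one_mem _, by rw [K.mo_one]; rfl⟩
  have hallD : ∀ δ : Fin 7 → ℤˣ, ∏ t, δ t = 1 → TD δ := by
    intro δ hδ
    induction hn' : (Finset.univ.filter fun t => δ t = -1).card using Nat.strong_induction_on
      generalizing δ with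
    | _ N ih =>
    by_cases h : δ = 1
    · exact h ▸ hone
    obtain ⟨c, hc⟩ : ∃ c, δ c = -1 := by
      by_contra h'
      push Not at h'
      exact h (funext fun i => (Int.units_eq_one_or (δ i)).resolve_right (h' i))
    obtain ⟨d, hdc, hd⟩ : ∃ d, d ≠ c ∧ δ d = -1 := by
      by_contra h'
      push Not at h'
      rw [Finset.prod_eq_single c (fun t _ ht => (Int.units_eq_one_or (δ t)).resolve_right (h' t ht))
        (by simp), hc] at hδ
      exact absurd hδ (by decide)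
    set w : Fin 7 → ℤˣ := Pi.mulSingle c (-1) * Pi.mulSingle d (-1) with hw
    have hwd : δ = w * (w * δ) := by
      funext t
      simp [← mul_assoc, Int.units_mul_self]
    rw [hwd]
    refine hmul _ _ (hall2 c d hdc.symm) (ih _ ?_ _ ?_ rfl)
    · rw [← hn']
      refine Finset.card_lt_card ⟨fun t ht => ?_, fun hsub => ?_⟩
      · simp only [Finset.mem_filter, Finset.mem_univ, true_and] at ht ⊢
        rcases eq_or_ne t c with rfl | h1
        · exact hc
        rcases eq_or_ne t d with rfl | h2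
        · exact hd
        simpa [hw, h1, h2] using ht
      · have := hsub (Finset.mem_filter.2 ⟨Finset.mem_univ c, hc⟩)
        simp [hw, hc, hdc.symm] at this
    · rw [Finset.prod_congr rfl fun t _ => Pi.mul_apply w δ t, Finset.prod_mul_distrib, hδ, mul_one,
        hw]
      simp [Finset.prod_mul_distrib, Finset.prod_pi_mulSingle']
  -- the element of order three moves a sign change out
  have hpure : ∀ (k : Fin 8), k = 7 ∨ k = 4 ∨ k = 5 →
      ∃ t ∈ T, (t : ↥(isometryGroup F ⇑Q)) = K.mo 1 (dp k) := by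
    have h7 : dp 7 = Equiv.swap 0 2 * Equiv.swap 1 3 := Equiv.ext (by decide +kernel)
    obtain ⟨t, ht, ht'⟩ := hallD ![1, 1, -1, -1, 1, 1, 1] (by decide)
    set z := K.elt hQ hn ![-1, 1, -1, 1, 1, 1, 1] (dp 7) (by decide) (sign_dp _) with hz
    have hzT : z ∈ T := hconj ⟨K.omegaElt, K.omegaElt_mem hQ hn⟩ t z ht ⟨_, 7, rfl⟩
      (Subtype.ext (by
        show K.omegaElt * (t : ↥(isometryGroup F ⇑Q)) = K.mo _ (dp 7) * K.omegaElt
        rw [ht', K.omega_conj, h7]))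
    obtain ⟨s, hs, hs'⟩ := hallD ![-1, 1, -1, 1, 1, 1, 1] (by decide)
    have h7T : ∃ t ∈ T, (t : ↥(isometryGroup F ⇑Q)) = K.mo 1 (dp 7) := by
      refine ⟨s * z, mul_mem hs hzT, ?_⟩
      rw [Subgroup.coe_mul, hs', show (z : ↥(isometryGroup F ⇑Q)) = K.mo _ (dp 7) from rfl,
        K.mo_mul, one_mul]
      congr 1
      funext i
      exact Int.units_mul_self _
    obtain ⟨σ, τ, hσ, hτ, hσ4, hτ5⟩ := exists_conj_zero
    obtain ⟨t7, ht7, ht7'⟩ := h7T
    have key : ∀ (π : Equiv.Perm (Fin 7)), Equiv.Perm.sign π = 1 → ∀ k : Fin 8,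
        (∀ i, π ((Equiv.swap 0 2 * Equiv.swap 1 3 : Equiv.Perm (Fin 7)) i) = tab k (π i)) →
        ∃ t ∈ T, (t : ↥(isometryGroup F ⇑Q)) = K.mo 1 (dp k) := by
      intro π hπ k hk
      refine ⟨K.elt hQ hn 1 (dp k) (by simp) (sign_dp k),
        hconj (K.elt hQ hn 1 π (by simp) hπ) t7 _ ht7 ⟨1, k, rfl⟩ (Subtype.ext ?_), rfl⟩
      show K.mo 1 π * (t7 : ↥(isometryGroup F ⇑Q)) = K.mo 1 (dp k) * K.mo 1 π
      rw [ht7', K.mo_mul, K.mo_mul]
      congr 1
      exact Equiv.ext fun i => by rw [h7]; exact hk i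
    rintro k (rfl | rfl | rfl)
    · exact ⟨t7, ht7, ht7'⟩
    · exact key σ hσ 4 hσ4
    · exact key τ hτ 5 hτ5
  have hmulk : ∀ a b, (∃ t ∈ T, (t : ↥(isometryGroup F ⇑Q)) = K.mo 1 (dp a)) →
      (∃ t ∈ T, (t : ↥(isometryGroup F ⇑Q)) = K.mo 1 (dp b)) →
      ∃ t ∈ T, (t : ↥(isometryGroup F ⇑Q)) = K.mo 1 (dp (mulIdx a b)) := by
    rintro a b ⟨s, hs, hs'⟩ ⟨t, ht, ht'⟩
    exact ⟨s * t, mul_mem hs ht, by rw [Subgroup.coe_mul, hs', ht', K.mo_mul, dp_mul]; rfl⟩
  have h4 := hpure 4 (Or.inr (Or.inl rfl))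
  have h5 := hpure 5 (Or.inr (Or.inr rfl))
  have hr := hmulk _ _ h5 h4
  have hr2 := hmulk _ _ hr hr
  intro g hg
  obtain ⟨δ, k, hg'⟩ := hg
  obtain ⟨s, hs, hs'⟩ := hallD δ (K.prod_eq_one_of_mem hQ hn hg').1
  obtain ⟨t, ht, ht'⟩ : ∃ t ∈ T, (t : ↥(isometryGroup F ⇑Q)) = K.mo 1 (dp k) := by
    rcases dp_eq_word k with rfl | rfl | rfl | rfl | rfl | rfl | rfl | rfl
    · exact ⟨1, one_mem _, by rw [dp_zero, K.mo_one]; rfl⟩
    · exact h4
    · exact h5
    · exact hr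
    · exact hr2
    · exact hmulk _ _ hr2 hr
    · exact hmulk _ _ hr h5
    · exact hmulk _ _ hr2 h5
  have : g = s * t := Subtype.ext (by
    rw [Subgroup.coe_mul, hs', ht', hg', K.mo_mul, one_mul]
    congr 1
    funext i
    exact (mul_one _).symm)
  exact this ▸ mul_mem hs ht

end Frame

open Cfsg.FusionSystem in
/-- A self-normalising Sylow subgroup without proper nontrivial strongly closed subgroups. -/
theorem fusion_main_aux {G : Type*} [Group G] [Finite G] [Fact (Nat.Prime 2)] (S₀ : Sylow 2 G)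
    (hN₀ : Subgroup.normalizer ((S₀ : Subgroup G) : Set G) = (S₀ : Subgroup G))
    (hcl₀ : ∀ T : Subgroup G, T ≤ (S₀ : Subgroup G) → T ≠ ⊥ →
      (∀ x ∈ T, ∀ g, g * x * g⁻¹ ∈ (S₀ : Subgroup G) → g * x * g⁻¹ ∈ T) → (S₀ : Subgroup G) ≤ T)
    (S : Sylow 2 G) (hne : (S : Subgroup G) ≠ ⊥) :
    (groupFusionSystem (S : Subgroup G)).autGroup (S : Subgroup G) =
        Cfsg.Inn ↥(S : Subgroup G) ∧
      (∀ T : Subgroup G, (groupFusionSystem (S : Subgroup G)).StronglyClosed T →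
        T = ⊥ ∨ T = (S : Subgroup G)) ∧
      (groupFusionSystem (S : Subgroup G)).IsSimple 2 := by
  obtain ⟨c, hc⟩ := MulAction.exists_smul_eq G S₀ S
  have hS : ∀ x, x ∈ (S : Subgroup G) ↔ c⁻¹ * x * c ∈ (S₀ : Subgroup G) := by
    intro x
    rw [← hc, Sylow.coe_subgroup_smul, Subgroup.mem_pointwise_smul_iff_inv_smul_mem]
    show (MulAut.conj c)⁻¹ • x ∈ (S₀ : Subgroup G) ↔ _
    rw [← map_inv]
    simp
  have hN : ∀ g, g ∈ Subgroup.normalizer ((S : Subgroup G) : Set G) → g ∈ (S : Subgroup G) := by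
    intro g hg
    rw [hS]
    rw [← hN₀, Subgroup.mem_normalizer_iff]
    intro y
    have h := Subgroup.mem_normalizer_iff.1 hg (c * y * c⁻¹)
    rw [hS, hS] at h
    simp only [mul_assoc, inv_mul_cancel_left, inv_mul_cancel, mul_one, _root_.mul_inv_rev,
      inv_inv] at h ⊢
    exact h
  have hgen : ∀ (α : MulAut ↥(S : Subgroup G)) (g : G),
      (∀ x : ↥(S : Subgroup G), ((α x : ↥(S : Subgroup G)) : G) = g * (x : G) * g⁻¹) →
      ∃ s : ↥(S : Subgroup G), MulAut.conj s = α := by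
    intro α g h
    have hg : g ∈ Subgroup.normalizer ((S : Subgroup G) : Set G) :=
      Subgroup.mem_normalizer_iff.2 fun x => ⟨fun hx => (h ⟨x, hx⟩) ▸ (α ⟨x, hx⟩).2, fun hx => by
        obtain ⟨y, hy⟩ := α.surjective ⟨_, hx⟩
        have h1 := h y
        rw [hy] at h1
        have : x = (y : G) := mul_left_cancel (mul_right_cancel h1)
        exact this ▸ y.2⟩
    exact ⟨⟨g, hN g hg⟩, MulEquiv.ext fun x => Subtype.ext (h x).symm⟩
  have hsc : ∀ T : Subgroup G, (groupFusionSystem (S : Subgroup G)).StronglyClosed T →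
      T = ⊥ ∨ T = (S : Subgroup G) := by
    intro T hT
    by_cases hb : T = ⊥
    · exact Or.inl hb
    refine Or.inr (le_antisymm hT.1 ?_)
    have key : (S₀ : Subgroup G) ≤ T.map (MulAut.conj c⁻¹).toMonoidHom := by
      refine hcl₀ _ ?_ ?_ ?_
      · rintro _ ⟨t, ht, rfl⟩
        show c⁻¹ * t * c⁻¹⁻¹ ∈ (S₀ : Subgroup G)
        rw [inv_inv]
        exact (hS t).1 (hT.1 ht)
      · rwa [Ne, Subgroup.map_eq_bot_iff_of_injective _ (MulAut.conj c⁻¹).injective]
      · rintro _ ⟨t, ht, rfl⟩ g hg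
        let h := c * g * c⁻¹
        have hg' : h * t * h⁻¹ ∈ (S : Subgroup G) := by
          rw [hS]
          have e : c⁻¹ * (h * t * h⁻¹) * c = g * (c⁻¹ * t * c⁻¹⁻¹) * g⁻¹ := by simp only [h]; group
          rw [e]
          exact hg
        refine ⟨h * t * h⁻¹, ?_, by simp [h, mul_assoc]⟩
        have hφ : (MulAut.conj h).toMonoidHom.comp (Subgroup.zpowers t).subtype ∈
            (groupFusionSystem (S : Subgroup G)).Hom (Subgroup.zpowers t) := by
          refine ⟨(Subgroup.zpowers_le.2 (hT.1 ht)), ?_, h, fun x => rfl⟩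
          rintro ⟨_, n, rfl⟩
          show h * t ^ n * h⁻¹ ∈ (S : Subgroup G)
          rw [← conj_zpow]
          exact zpow_mem hg' n
        exact hT.2 _ (Subgroup.zpowers_le.2 ht) _ hφ ⟨t, Subgroup.mem_zpowers t⟩
    intro x hx
    obtain ⟨t, ht, he⟩ := key ((hS x).1 hx)
    have : t = x := by simpa using he
    exact this ▸ ht
  refine ⟨le_antisymm ((Subgroup.closure_le _).2 ?_) ?_, hsc, ?_⟩
  · rintro α ⟨-, -, g, hg⟩
    exact hgen α g hg
  · rintro _ ⟨s, rfl⟩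
    exact Subgroup.subset_closure ⟨le_rfl, fun x => (MulAut.conj s x).2, (s : G), fun x => rfl⟩
  · refine CfsgLib.FusionQuot.isSimple_of_autInducedBy_top_le S ?_ hsc ?_
    · intro hbot
      exact hne hbot
    · refine (Subgroup.closure_le _).2 ?_
      rintro α ⟨g, -, hg⟩
      obtain ⟨s, rfl⟩ := hgen α g hg
      exact Subgroup.subset_closure ⟨(s : G), s.2, fun x => rfl⟩

open Cfsg.FusionSystem in
/-- The three properties, for any Sylow subgroup. -/
theorem fusion_main (hQ : (QuadraticMap.polarBilin Q).Nondegenerate) (hn : 2 ≤ Fintype.card ι)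
    (K : Frame Q) {m : ℕ} (hm : Odd m) (hcard : Nat.card ↥(Omega F ⇑Q) = 2 ^ 9 * m)
    (S : Sylow 2 ↥(Omega F ⇑Q)) :
    (groupFusionSystem (S : Subgroup ↥(Omega F ⇑Q))).autGroup (S : Subgroup ↥(Omega F ⇑Q)) =
        Cfsg.Inn ↥(S : Subgroup ↥(Omega F ⇑Q)) ∧
      (∀ T : Subgroup ↥(Omega F ⇑Q), (groupFusionSystem (S : Subgroup ↥(Omega F ⇑Q))).StronglyClosed T →
        T = ⊥ ∨ T = (S : Subgroup ↥(Omega F ⇑Q))) ∧
      (groupFusionSystem (S : Subgroup ↥(Omega F ⇑Q))).IsSimple 2 := by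
  have : Fact (Nat.Prime 2) := ⟨Nat.prime_two⟩
  have hf : (Nat.card ↥(Omega F ⇑Q)).factorization 2 = 9 := by
    rw [hcard, Nat.factorization_mul (by norm_num) hm.pos.ne', Finsupp.add_apply,
      Nat.Prime.factorization_pow Nat.prime_two, Finsupp.single_eq_same,
      Nat.factorization_eq_zero_of_not_dvd hm.not_two_dvd_nat]
  refine fusion_main_aux (Sylow.ofCard K.syl (by rw [K.card_syl hQ hn, hf]; norm_num))
    (K.normalizer_syl hQ hn) (fun T h1 h2 h3 => K.syl_le_of_closed hQ hn h1 h2 h3) S ?_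
  intro hbot
  have := S.card_eq_multiplicity
  rw [hbot, Subgroup.card_bot, hf] at this
  norm_num at this

end CfsgLib.OmegaSeven
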